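import Cfsg.Agent.Lib.Spor.J2Unique.Case8.Part0
import Cfsg.Agent.Lib.Spor.J2Unique.Case8.Part1

/-!
A case in which `b` falls into the centralizer: the assembled checks.
-/

set_option autoImplicit false

namespace CfsgLib.Spor.J2Unique.Case8

open CfsgLib.Spor.TC

theorem steps_ok : cert.SStepsOK 0 2675 :=
  (steps0.append _ steps2500)

set_option maxRecDepth 100000 in
theorem trace : cert.sTraceOK 2675 [2] 0x14e6 = true := by decide +kernel

end CfsgLib.Spor.J2Unique.Case8
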